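import Groth.Agent.FppfSource.Algebra
import Groth.Agent.SourceDescent.Basic

/-!
Finite type / finite presentation descend along fppf coverings of the source.
-/

universe u

open CategoryTheory CategoryTheory.Limits AlgebraicGeometry

namespace Groth.Agent.FppfSource

/-- flat and locally of finite presentation -/
def flatLfp : MorphismProperty Scheme.{u} := @Flat ⊓ @LocallyOfFinitePresentation

instance : flatLfp.{u}.IsStableUnderBaseChange := MorphismProperty.IsStableUnderBaseChange.inf
instance : flatLfp.{u}.IsStableUnderComposition := inferInstanceAs (MorphismProperty.IsStableUnderComposition (_ ⊓ _))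
instance : IsZariskiLocalAtSource flatLfp.{u} := inferInstanceAs (IsZariskiLocalAtSource (_ ⊓ _))

theorem isOpenMap_of_flatLfp ⦃A B : Scheme.{u}⦄ (k : A ⟶ B) (hk : flatLfp k) : IsOpenMap k :=
  haveI := hk.1
  haveI := hk.2
  k.isOpenMap

theorem faithfullyFlat_and_fp {B C : CommRingCat.{u}} (ψ : B ⟶ C) (hM : flatLfp (Spec.map ψ))
    (hs : Surjective (Spec.map ψ)) : ψ.hom.FaithfullyFlat ∧ ψ.hom.FinitePresentation :=
  haveI := hM.1
  ⟨SourceDescent.faithfullyFlat_of_spec ψ, (HasRingHomProperty.Spec_iff (P := @LocallyOfFinitePresentation)).1 hM.2⟩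

variable {X Y Z : Scheme.{u}} (f : X ⟶ Y) (g : Y ⟶ Z)

theorem locallyOfFiniteType_of_comp [Flat f] [LocallyOfFinitePresentation f] [Surjective f]
    [LocallyOfFiniteType (f ≫ g)] : LocallyOfFiniteType g := by
  refine SourceDescent.of_comp_surjective (P := @LocallyOfFiniteType) (M := flatLfp) isOpenMap_of_flatLfp
    (fun A B C φ ψ hM hs hQ => ?_) f g ⟨‹_›, ‹_›⟩ ‹_›
  obtain ⟨hff, hfp⟩ := faithfullyFlat_and_fp ψ hM hs
  algebraize [φ.hom, ψ.hom, ψ.hom.comp φ.hom]
  have : Algebra.FiniteType A C := hQ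
  exact finiteType_of_fppf A B C

theorem locallyOfFinitePresentation_of_comp [Flat f] [LocallyOfFinitePresentation f] [Surjective f]
    [LocallyOfFinitePresentation (f ≫ g)] : LocallyOfFinitePresentation g := by
  refine SourceDescent.of_comp_surjective (P := @LocallyOfFinitePresentation) (M := flatLfp) isOpenMap_of_flatLfp
    (fun A B C φ ψ hM hs hQ => ?_) f g ⟨‹_›, ‹_›⟩ ‹_›
  obtain ⟨hff, hfp⟩ := faithfullyFlat_and_fp ψ hM hs
  algebraize [φ.hom, ψ.hom, ψ.hom.comp φ.hom]
  have : Algebra.FinitePresentation A C := hQ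
  exact finitePresentation_of_fppf A B C

end Groth.Agent.FppfSource
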