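import Mathlib
import Groth.Agent.FlatDescent.Global

/-!
Finite type and finite presentation of `A → B` from those of `A → C` for `B → C` faithfully flat of finite
presentation (Stacks 02KL).  Follows `SourceDescent` (the smooth case) and `S9456`.
-/

set_option autoImplicit false
set_option backward.isDefEq.respectTransparency.types false

universe u

open TensorProduct

namespace Groth.Agent.FppfSource

open Groth.FlatDescent MvPolynomial in
theorem isPushout_of_presentation {A R S : Type u} [CommRing A] [CommRing R] [CommRing S] [Algebra A R] [Algebra R S]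
    [Algebra A S] [IsScalarTower A R S] {n : ℕ} (π : MvPolynomial (Fin n) R →ₐ[R] S) (hπ : Function.Surjective π)
    (H₂ : Ideal (MvPolynomial (Fin n) A)) [Algebra (MvPolynomial (Fin n) A ⧸ H₂) S]
    [IsScalarTower A (MvPolynomial (Fin n) A ⧸ H₂) S]
    (halg : ∀ p, algebraMap (MvPolynomial (Fin n) A ⧸ H₂) S (Ideal.Quotient.mk H₂ p) = π (MvPolynomial.map (algebraMap A R) p))
    (hHmap : RingHom.ker π.toRingHom ≤ H₂.map (MvPolynomial.map (algebraMap A R))) :
    Algebra.IsPushout A R (MvPolynomial (Fin n) A ⧸ H₂) S := by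
  let φ := algebraMap A R
  let P₂ := MvPolynomial (Fin n) A
  let P := MvPolynomial (Fin n) R
  refine ⟨IsBaseChange.of_lift_unique _ fun Q _ _ _ _ q => ?_⟩
  let G' : P →ₗ[R] Q := (MvPolynomial.basisMonomials (Fin n) R).constr ℕ fun d =>
    q (Ideal.Quotient.mk H₂ (monomial d 1))
  have hG' : ∀ p : P₂, G' (MvPolynomial.map φ p) = q (Ideal.Quotient.mk H₂ p) := by
    intro p
    induction p using MvPolynomial.induction_on' with
    | monomial d a =>
      have h1 : MvPolynomial.map φ (monomial d a) = (φ a) • MvPolynomial.basisMonomials (Fin n) R d := by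
        rw [map_monomial, show MvPolynomial.basisMonomials (Fin n) R d = monomial d 1 from rfl, smul_monomial,
          smul_eq_mul, mul_one]
      have h2 : Ideal.Quotient.mk H₂ (monomial d a) = a • Ideal.Quotient.mk H₂ (monomial d 1) := by
        rw [← Ideal.Quotient.mkₐ_eq_mk A, ← map_smul, smul_monomial, smul_eq_mul, mul_one]
      rw [h1, map_smul, Module.Basis.constr_basis, h2, map_smul, ← algebraMap_smul R a]
    | add a b ha hb => simp only [map_add, ha, hb]
  have hG0 : ∀ x ∈ LinearMap.ker π.toLinearMap, G' x = 0 := by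
    intro x hx
    have h1 := mem_span_of_mem_map φ H₂ (hHmap (RingHom.mem_ker.mpr (LinearMap.mem_ker.mp hx)))
    clear hx
    induction h1 using Submodule.span_induction with
    | mem x hx =>
      obtain ⟨h, hh, rfl⟩ := hx
      rw [hG', Ideal.Quotient.eq_zero_iff_mem.mpr hh, map_zero]
    | zero => exact map_zero _
    | add a b _ _ ha hb => rw [map_add, ha, hb, add_zero]
    | smul c a _ ha => rw [map_smul, ha, smul_zero]
  choose sec hsec using hπ
  have hd : ∀ a b, π a = π b → G' a = G' b := fun a b hab => by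
    rw [← sub_add_cancel a b, map_add, hG0 (a - b) (LinearMap.mem_ker.mpr
      (show π (a - b) = 0 by rw [map_sub, hab, sub_self])), zero_add]
  let g₁ : S →ₗ[R] Q :=
    { toFun := fun x => G' (sec x)
      map_add' := fun a b => by
        rw [← map_add]
        exact hd _ _ (by rw [map_add, hsec, hsec, hsec])
      map_smul' := fun c x => by
        rw [RingHom.id_apply, ← map_smul]
        exact hd _ _ (by rw [map_smul, hsec, hsec]) }
  refine ⟨g₁, LinearMap.ext fun c => ?_, fun g₂ hg₂ => LinearMap.ext fun x => ?_⟩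
  · obtain ⟨c, rfl⟩ := Ideal.Quotient.mk_surjective c
    show G' (sec (algebraMap (MvPolynomial (Fin n) A ⧸ H₂) S (Ideal.Quotient.mk H₂ c))) = _
    rw [halg, hd _ (MvPolynomial.map (algebraMap A R) c) (hsec _)]
    exact hG' c
  · have h3 : (g₂.comp π.toLinearMap) = G' := (MvPolynomial.basisMonomials (Fin n) R).ext fun d => by
      rw [Module.Basis.constr_basis]
      refine Eq.trans ?_ (LinearMap.congr_fun hg₂ (Ideal.Quotient.mk H₂ (monomial d 1)))
      show g₂ (π (monomial d 1)) = g₂ (algebraMap (MvPolynomial (Fin n) A ⧸ H₂) S (Ideal.Quotient.mk H₂ (monomial d 1)))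
      rw [halg, map_monomial, (algebraMap A R).map_one]
    show g₂ x = G' (sec x)
    rw [← h3]
    exact (congrArg g₂ (hsec x)).symm

open Groth.FlatDescent MvPolynomial in
/-- A flat finitely presented algebra descends to a finitely generated subalgebra. -/
theorem exists_subalgebra_fg_flat_int (B C : Type u) [CommRing B] [CommRing C] [Algebra B C]
    [Algebra.FinitePresentation B C] [Module.Flat B C] :
    ∃ (B₀ : Subalgebra ℤ B) (C₀ : Type u) (_ : CommRing C₀) (_ : Algebra B₀ C₀),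
      B₀.FG ∧ Module.Flat B₀ C₀ ∧ Algebra.FinitePresentation B₀ C₀ ∧
        Nonempty (C ≃ₐ[B] B ⊗[B₀] C₀) := by
  obtain ⟨n, π, hπ, hker⟩ := Algebra.FinitePresentation.out (R := B) (A := C)
  let P := MvPolynomial (Fin n) B
  let e : (Unit → P) ≃ₗ[P] P := LinearEquiv.funUnique Unit P P
  let K : Ideal P := RingHom.ker π.toRingHom
  let N : Submodule P (Unit → P) := Submodule.map (e.symm : P →ₗ[P] (Unit → P)) K
  have hN : N.FG := Submodule.FG.map _ hker
  have hmap : N.map (e : (Unit → P) →ₗ[P] P) = K := by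
    rw [← Submodule.map_comp]; simp
  haveI : Module.Flat B ((Unit → P) ⧸ N) := Module.Flat.of_linearEquiv
    (((Submodule.Quotient.equiv N K e hmap).restrictScalars B).trans
      (Ideal.quotientKerAlgEquivOfSurjective hπ).toLinearEquiv)
  obtain ⟨A₁, hA₁, -, N₁, hN₁, hflat⟩ := exists_flat_model hN ⊥ Subalgebra.fg_bot
  let P₁ := MvPolynomial (Fin n) A₁
  let φ : A₁ →+* B := A₁.val.toRingHom
  let e₁ : (Unit → P₁) ≃ₗ[P₁] P₁ := LinearEquiv.funUnique Unit P₁ P₁
  let I₁ : Ideal P₁ := Submodule.map (e₁ : (Unit → P₁) →ₗ[P₁] P₁) N₁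
  have hK : I₁.map (MvPolynomial.map φ) = K := by
    rw [← hmap, ← hN₁, baseN, Submodule.map_span, Ideal.map]
    congr 1
    ext x
    constructor
    · rintro ⟨_, ⟨v, hv, rfl⟩, rfl⟩; exact ⟨_, ⟨v, hv, rfl⟩, rfl⟩
    · rintro ⟨_, ⟨v, hv, rfl⟩, rfl⟩; exact ⟨_, ⟨v, hv, rfl⟩, rfl⟩
  let C₀ := P₁ ⧸ I₁
  haveI : Module.Flat A₁ ((Unit → P₁) ⧸ N₁) := by
    have h := hflat A₁ hA₁ le_rfl
    rwa [show baseN (Subalgebra.inclusion (le_refl A₁)).toRingHom N₁ = N₁ by
      rw [baseN, show ⇑(mapF (σ := Fin n) (κ := Unit) (Subalgebra.inclusion (le_refl A₁)).toRingHom) = id from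
        funext fun v => funext fun i => by
          rw [mapF_apply]; exact MvPolynomial.map_id _]
      rw [Set.image_id]; exact Submodule.span_eq N₁] at h
  haveI : Module.Flat A₁ C₀ := Module.Flat.of_linearEquiv
    ((Submodule.Quotient.equiv N₁ I₁ e₁ rfl).restrictScalars A₁).symm
  haveI : Algebra.FiniteType ℤ A₁ := ⟨A₁.fg_top.mpr hA₁⟩
  haveI : IsNoetherianRing A₁ := Algebra.FiniteType.isNoetherianRing ℤ A₁
  haveI : Algebra.FinitePresentation A₁ C₀ := Algebra.FinitePresentation.quotient (IsNoetherian.noetherian I₁)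
  let g : C₀ →+* C := Ideal.Quotient.lift I₁ (π.toRingHom.comp (MvPolynomial.map φ)) fun a ha => by
    have : MvPolynomial.map φ a ∈ K := hK ▸ Ideal.mem_map_of_mem _ ha
    exact this
  letI : Algebra C₀ C := g.toAlgebra
  haveI : IsScalarTower A₁ C₀ C := IsScalarTower.of_algebraMap_eq (R := A₁) (S := C₀) (A := C) fun a => by
    show algebraMap A₁ C a = g (Ideal.Quotient.mk I₁ (MvPolynomial.C a))
    rw [Ideal.Quotient.lift_mk, RingHom.comp_apply, MvPolynomial.map_C]
    exact (π.commutes (φ a)).symm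
  haveI := isPushout_of_presentation (A := A₁) π hπ I₁ (fun p => rfl) hK.ge
  exact ⟨A₁, C₀, inferInstance, inferInstance, hA₁, inferInstance, inferInstance,
    ⟨(Algebra.IsPushout.equiv A₁ B C₀ C).symm⟩⟩

variable (A B C : Type u) [CommRing A] [CommRing B] [CommRing C] [Algebra A B] [Algebra B C]
  [Algebra A C] [IsScalarTower A B C]

/-- Over an arbitrary base. -/
theorem exists_subalgebra_fg_flat [Algebra.FinitePresentation B C] [Module.Flat B C] :
    ∃ (B₀ : Subalgebra A B) (C₀ : Type u) (_ : CommRing C₀) (_ : Algebra B₀ C₀),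
      B₀.FG ∧ Module.Flat B₀ C₀ ∧ Algebra.FinitePresentation B₀ C₀ ∧
        Nonempty (C ≃ₐ[B] B ⊗[B₀] C₀) := by
  obtain ⟨B₀, C₀, _, _, ⟨t, ht⟩, _, _, ⟨e⟩⟩ := exists_subalgebra_fg_flat_int B C
  let B₁ : Subalgebra A B := Algebra.adjoin A (t : Set B)
  have hle : (B₀ : Set B) ⊆ B₁ := by
    rw [← ht]
    intro x hx
    exact Algebra.adjoin_le (S := B₁.restrictScalars ℤ) Algebra.subset_adjoin hx
  let i : B₀ →+* B₁ :=
    { toFun := fun x => ⟨x.1, hle x.2⟩
      map_one' := rfl, map_mul' := fun _ _ => rfl, map_zero' := rfl, map_add' := fun _ _ => rfl }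
  letI : Algebra B₀ B₁ := i.toAlgebra
  haveI : IsScalarTower B₀ B₁ B := .of_algebraMap_eq fun _ => rfl
  exact ⟨B₁, B₁ ⊗[B₀] C₀, inferInstance, inferInstance, Subalgebra.fg_adjoin_finset t, inferInstance,
    inferInstance, ⟨e.trans (Algebra.TensorProduct.cancelBaseChange B₀ B₁ B B C₀).symm⟩⟩

/-- The image of a flat finitely presented morphism is open; base change lands inside it after adjoining finitely many elements. -/
theorem exists_faithfullyFlat_model {B₀ C₀ : Type u} [CommRing B₀] [CommRing C₀] [Algebra B₀ B]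
    [Algebra B₀ C₀] [Module.Flat B₀ C₀] [Algebra.FinitePresentation B₀ C₀]
    (h : ∀ p : PrimeSpectrum B, PrimeSpectrum.comap (algebraMap B₀ B) p ∈
      Set.range (PrimeSpectrum.comap (algebraMap B₀ C₀))) :
    ∃ s : Finset B, ∀ (B₁ : Type u) [CommRing B₁] [Algebra B₀ B₁] [Algebra B₁ B] [IsScalarTower B₀ B₁ B],
      ((s : Set B) ⊆ Set.range (algebraMap B₁ B)) → Function.Injective (algebraMap B₁ B) →
        Module.FaithfullyFlat B₁ (B₁ ⊗[B₀] C₀) := by
  obtain ⟨K, hK⟩ := (PrimeSpectrum.isClosed_iff_zeroLocus_ideal _).1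
    (PrimeSpectrum.isOpenMap_comap_of_hasGoingDown_of_finitePresentation
      (R := B₀) (S := C₀)).isOpen_range.isClosed_compl
  have htop : K.map (algebraMap B₀ B) = ⊤ := by
    rw [← PrimeSpectrum.zeroLocus_empty_iff_eq_top, Set.eq_empty_iff_forall_notMem]
    intro p hp
    have hm : PrimeSpectrum.comap (algebraMap B₀ B) p ∈ PrimeSpectrum.zeroLocus (K : Set B₀) := by
      rw [PrimeSpectrum.mem_zeroLocus] at hp ⊢
      exact fun x hx => hp (Ideal.mem_map_of_mem _ hx)
    rw [← hK] at hm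
    exact hm (h p)
  have h1 : (1 : B) ∈ Ideal.map (algebraMap B₀ B) K := htop ▸ Submodule.mem_top
  obtain ⟨l, hlK, hl⟩ := (Finsupp.mem_span_image_iff_linearCombination B).1 h1
  classical
  refine ⟨l.support.image l, fun B₁ _ _ _ _ hs hinj => ?_⟩
  have htop₁ : K.map (algebraMap B₀ B₁) = ⊤ := by
    rw [Ideal.eq_top_iff_one]
    have hb : ∀ x ∈ l.support, ∃ b : B₁, algebraMap B₁ B b = l x := fun x hx =>
      hs (Finset.coe_image (f := l) (s := l.support) ▸ ⟨x, hx, rfl⟩)
    choose b hb using hb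
    have : ∑ x ∈ l.support.attach, b x x.2 * algebraMap B₀ B₁ x = 1 := by
      apply hinj
      rw [map_sum, map_one, ← hl, Finsupp.linearCombination_apply, Finsupp.sum,
        ← Finset.sum_attach l.support]
      exact Finset.sum_congr rfl fun x _ => by
        rw [map_mul, hb, ← IsScalarTower.algebraMap_apply, smul_eq_mul]
    rw [← this]
    refine Ideal.sum_mem _ fun x _ => Ideal.mul_mem_left _ _ (Ideal.mem_map_of_mem _ ?_)
    exact hlK x.2
  refine Module.FaithfullyFlat.of_comap_surjective fun p => ?_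
  have hp : PrimeSpectrum.comap (algebraMap B₀ B₁) p ∈
      Set.range (PrimeSpectrum.comap (algebraMap B₀ C₀)) := by
    by_contra hn
    have hn' : PrimeSpectrum.comap (algebraMap B₀ B₁) p ∈ PrimeSpectrum.zeroLocus (K : Set B₀) := hK ▸ hn
    rw [PrimeSpectrum.mem_zeroLocus] at hn'
    exact p.isPrime.ne_top (top_le_iff.1 (htop₁.symm.le.trans (Ideal.map_le_iff_le_comap.2 hn')))
  obtain ⟨c, hc⟩ := hp
  let p₀ := PrimeSpectrum.comap (algebraMap B₀ B₁) p
  have : Nontrivial (p₀.asIdeal.Fiber C₀) :=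
    (PrimeSpectrum.nonempty_iff_nontrivial).1 ⟨PrimeSpectrum.preimageEquivFiber B₀ C₀ p₀ ⟨c, hc⟩⟩
  let : Algebra p₀.asIdeal.ResidueField p.asIdeal.ResidueField :=
    (Ideal.ResidueField.mapₐ p₀.asIdeal p.asIdeal (Algebra.ofId B₀ B₁) rfl).toRingHom.toAlgebra
  have : IsScalarTower B₀ p₀.asIdeal.ResidueField p.asIdeal.ResidueField :=
    .of_algebraMap_eq' (Ideal.ResidueField.mapₐ p₀.asIdeal p.asIdeal (Algebra.ofId B₀ B₁) rfl).comp_algebraMap.symm
  have h2 : Nontrivial (p.asIdeal.ResidueField ⊗[p₀.asIdeal.ResidueField] p₀.asIdeal.Fiber C₀) :=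
    (Module.FaithfullyFlat.nontrivial_tensorProduct_iff_right p₀.asIdeal.ResidueField
      p.asIdeal.ResidueField).2 inferInstance
  have h3 : Nontrivial (p.asIdeal.Fiber (B₁ ⊗[B₀] C₀)) :=
    @Equiv.nontrivial _ _ ((AlgebraTensorModule.cancelBaseChange B₀ p₀.asIdeal.ResidueField p.asIdeal.ResidueField
      p.asIdeal.ResidueField C₀).toEquiv.trans
      (AlgebraTensorModule.cancelBaseChange B₀ B₁ p.asIdeal.ResidueField
        p.asIdeal.ResidueField C₀).toEquiv.symm).symm h2
  obtain ⟨q⟩ := (PrimeSpectrum.nonempty_iff_nontrivial (R := p.asIdeal.Fiber (B₁ ⊗[B₀] C₀))).2 h3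
  exact ⟨((PrimeSpectrum.preimageEquivFiber B₁ (B₁ ⊗[B₀] C₀) p).symm q).1,
    ((PrimeSpectrum.preimageEquivFiber B₁ (B₁ ⊗[B₀] C₀) p).symm q).2⟩

/-- Finite type, along fppf maps. -/
theorem finiteType_of_fppf [Algebra.FinitePresentation B C] [Module.FaithfullyFlat B C] [Algebra.FiniteType A C] :
    Algebra.FiniteType A B := by
  obtain ⟨B₀, C₀, _, _, hB₀, _, _, ⟨e⟩⟩ := exists_subalgebra_fg_flat A B C
  obtain ⟨s, hs⟩ := exists_faithfullyFlat_model B (B₀ := B₀) (C₀ := C₀) fun p => by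
    obtain ⟨c, rfl⟩ := PrimeSpectrum.comap_surjective_of_faithfullyFlat (B := C) p
    refine ⟨PrimeSpectrum.comap ((e.symm.toAlgHom.restrictScalars B₀).comp
      Algebra.TensorProduct.includeRight).toRingHom c, ?_⟩
    rw [← PrimeSpectrum.comap_comp_apply, ← PrimeSpectrum.comap_comp_apply]
    exact congrArg (fun φ => PrimeSpectrum.comap φ c)
      (((e.symm.toAlgHom.restrictScalars B₀).comp Algebra.TensorProduct.includeRight).comp_algebraMap.trans
        (IsScalarTower.algebraMap_eq B₀ B C))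
  obtain ⟨g, hg⟩ := Algebra.FiniteType.out (R := A) (A := C)
  choose t ht using fun x : C => TensorProduct.exists_finset (e x)
  classical
  let s' : Finset B := s ∪ g.biUnion fun x => (t x).image Prod.fst
  let B₁ : Subalgebra A B := B₀ ⊔ Algebra.adjoin A (s' : Set B)
  let : Algebra B₀ B₁ := (Subalgebra.inclusion (le_sup_left : B₀ ≤ B₁)).toRingHom.toAlgebra
  have : IsScalarTower B₀ B₁ B := .of_algebraMap_eq fun _ => rfl
  have : Module.FaithfullyFlat B₁ (B₁ ⊗[B₀] C₀) := hs B₁ (fun x hx =>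
    ⟨⟨x, le_sup_right (a := B₀) (Algebra.subset_adjoin (Finset.mem_union_left _ hx))⟩, rfl⟩)
    Subtype.val_injective
  have hfg : B₁.FG := hB₀.sup (Subalgebra.fg_adjoin_finset _)
  have : Algebra.FiniteType A B₁ := (Subalgebra.fg_iff_finiteType B₁).1 hfg
  let E : B ⊗[B₁] (B₁ ⊗[B₀] C₀) ≃ₐ[B] C :=
    (Algebra.TensorProduct.cancelBaseChange B₀ B₁ B B C₀).trans e.symm
  let q : B₁ ⊗[B₀] C₀ →ₐ[B₁] B ⊗[B₁] (B₁ ⊗[B₀] C₀) := Algebra.TensorProduct.includeRight
  have hq : Function.Surjective q := by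
    suffices hsur : ∀ x : C, ∃ y, E (q y) = x from fun z => by
      obtain ⟨y, hy⟩ := hsur (E z)
      exact ⟨y, E.injective hy⟩
    let R : Subalgebra A C :=
      (((E.toAlgHom.restrictScalars B₁).comp q).restrictScalars A).range
    suffices R = ⊤ from fun x => by
      obtain ⟨y, hy⟩ := (this ▸ Algebra.mem_top : x ∈ R)
      exact ⟨y, hy⟩
    rw [_root_.eq_top_iff, ← hg, Algebra.adjoin_le_iff]
    intro x hx
    have hmem : ∀ i ∈ t x, ∃ y, E (q y) = e.symm (i.1 ⊗ₜ i.2) := fun i hi => by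
      let b : B₁ := ⟨i.1, le_sup_right (a := B₀) (Algebra.subset_adjoin (Finset.mem_union_right _
        (Finset.mem_biUnion.2 ⟨x, hx, Finset.mem_image_of_mem _ hi⟩)))⟩
      refine ⟨b ⊗ₜ i.2, ?_⟩
      show e.symm (Algebra.TensorProduct.cancelBaseChange B₀ B₁ B B C₀ ((1 : B) ⊗ₜ (b ⊗ₜ i.2))) = _
      congr 1
      rw [Algebra.TensorProduct.cancelBaseChange_tmul, Algebra.smul_def, mul_one]
      rfl
    choose y hy using hmem
    refine ⟨∑ i ∈ (t x).attach, y i.1 i.2, ?_⟩
    show E (q (∑ i ∈ (t x).attach, y i.1 i.2)) = x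
    rw [map_sum, map_sum]
    simp only [hy]
    rw [← map_sum, Finset.sum_attach (t x) (fun i : B × C₀ => i.1 ⊗ₜ[B₀] i.2), ← ht, e.symm_apply_apply]
  let ι : B₁ →ₗ[B₁] B := Algebra.linearMap B₁ B
  have hι : Function.Surjective (ι.lTensor (B₁ ⊗[B₀] C₀)) := fun z => by
    obtain ⟨y, hy⟩ := hq (TensorProduct.comm B₁ (B₁ ⊗[B₀] C₀) B z)
    refine ⟨y ⊗ₜ 1, (TensorProduct.comm B₁ (B₁ ⊗[B₀] C₀) B).injective ?_⟩
    rw [← hy]
    simp [ι]
    rfl
  rw [Module.FaithfullyFlat.lTensor_surjective_iff_surjective] at hι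
  exact Algebra.FiniteType.of_surjective (IsScalarTower.toAlgHom A B₁ B) hι

set_option maxHeartbeats 1000000 in
-- large tensor product types
/-- Finite presentation, along fppf maps. -/
theorem finitePresentation_of_fppf [Algebra.FinitePresentation B C] [Module.FaithfullyFlat B C]
    [Algebra.FinitePresentation A C] : Algebra.FinitePresentation A B := by
  have := finiteType_of_fppf A B C
  obtain ⟨n, π, hπ⟩ := Algebra.FiniteType.iff_quotient_mvPolynomial''.1 this
  obtain ⟨B₀, C₀, _, _, hB₀, _, _, ⟨e⟩⟩ := exists_subalgebra_fg_flat_int B C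
  obtain ⟨s, hs⟩ := exists_faithfullyFlat_model B (B₀ := B₀) (C₀ := C₀) fun p => by
    obtain ⟨c, rfl⟩ := PrimeSpectrum.comap_surjective_of_faithfullyFlat (B := C) p
    refine ⟨PrimeSpectrum.comap ((e.symm.toAlgHom.restrictScalars B₀).comp
      Algebra.TensorProduct.includeRight).toRingHom c, ?_⟩
    rw [← PrimeSpectrum.comap_comp_apply, ← PrimeSpectrum.comap_comp_apply]
    exact congrArg (fun φ => PrimeSpectrum.comap φ c)
      (((e.symm.toAlgHom.restrictScalars B₀).comp Algebra.TensorProduct.includeRight).comp_algebraMap.trans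
        (IsScalarTower.algebraMap_eq B₀ B C))
  let B₁ : Subalgebra ℤ B := B₀ ⊔ Algebra.adjoin ℤ (s : Set B)
  let : Algebra B₀ B₁ := (Subalgebra.inclusion (le_sup_left : B₀ ≤ B₁)).toRingHom.toAlgebra
  have : IsScalarTower B₀ B₁ B := .of_algebraMap_eq fun _ => rfl
  have hff : Module.FaithfullyFlat B₁ (B₁ ⊗[B₀] C₀) := hs B₁ (fun x hx =>
    ⟨⟨x, le_sup_right (a := B₀) (Algebra.subset_adjoin hx)⟩, rfl⟩) Subtype.val_injective
  have : Algebra.FiniteType ℤ B₁ := (Subalgebra.fg_iff_finiteType B₁).1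
    (hB₀.sup (Subalgebra.fg_adjoin_finset _))
  have : Algebra.FinitePresentation ℤ B₁ := Algebra.FinitePresentation.of_finiteType.1 this
  obtain ⟨m, φ, hφ, hK⟩ := this.out
  have hX : ∀ i, ∃ x, π x = (φ (.X i) : B) := fun i => hπ _
  choose x hx using hX
  let ψ : MvPolynomial (Fin m) ℤ →+* MvPolynomial (Fin n) A :=
    (MvPolynomial.aeval (R := ℤ) x).toRingHom
  have hψ : π.toRingHom.comp ψ = (algebraMap B₁ B).comp φ.toRingHom := by
    apply MvPolynomial.ringHom_ext' (RingHom.ext_int _ _)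
    intro i
    simpa [ψ] using hx i
  let J : Ideal (MvPolynomial (Fin n) A) := (RingHom.ker φ.toRingHom).map ψ
  have hJ : J.FG := hK.map ψ
  have hJI : J ≤ RingHom.ker π := by
    rw [Ideal.map_le_iff_le_comap]
    intro k hk
    show π.toRingHom (ψ k) = 0
    rw [← RingHom.comp_apply, hψ, RingHom.comp_apply, (RingHom.mem_ker).1 hk, map_zero]
  let S' := MvPolynomial (Fin n) A ⧸ J
  have : Algebra.FinitePresentation A S' := .quotient hJ
  let p : S' →ₐ[A] B := Ideal.Quotient.liftₐ J π hJI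
  have hp : Function.Surjective p := fun b => by
    obtain ⟨a, ha⟩ := hπ b
    exact ⟨Ideal.Quotient.mk J a, ha⟩
  let χ : B₁ →+* S' := RingHom.liftOfSurjective φ.toRingHom hφ
    ⟨(Ideal.Quotient.mk J).comp ψ, fun k hk => by
      rw [RingHom.mem_ker, RingHom.comp_apply, Ideal.Quotient.eq_zero_iff_mem]
      exact Ideal.mem_map_of_mem ψ hk⟩
  let : Algebra B₁ S' := χ.toAlgebra
  let : Algebra S' B := p.toRingHom.toAlgebra
  have hpχ : p.toRingHom.comp χ = algebraMap B₁ B := by
    ext b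
    obtain ⟨k, rfl⟩ := hφ b
    show p (χ (φ.toRingHom k)) = _
    rw [RingHom.liftOfSurjective_comp_apply]
    exact congrArg (fun g => g k) hψ
  have : IsScalarTower B₁ S' B := .of_algebraMap_eq' hpχ.symm
  have : IsScalarTower A S' B := .of_algebraMap_eq' p.comp_algebraMap.symm
  let C' := S' ⊗[B₁] (B₁ ⊗[B₀] C₀)
  have : Module.FaithfullyFlat S' C' := inferInstance
  have : Algebra.FinitePresentation A C' := .trans A S' C'
  let E : B ⊗[B₁] (B₁ ⊗[B₀] C₀) ≃ₐ[B] C :=
    (Algebra.TensorProduct.cancelBaseChange B₀ B₁ B B C₀).trans e.symm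
  let ps : S' →ₐ[B₁] B := IsScalarTower.toAlgHom B₁ S' B
  let qm : C' →ₐ[B₁] B ⊗[B₁] (B₁ ⊗[B₀] C₀) :=
    Algebra.TensorProduct.map ps (AlgHom.id B₁ (B₁ ⊗[B₀] C₀))
  let q : C' →ₐ[A] C :=
    { toRingHom := E.toAlgHom.toRingHom.comp qm.toRingHom
      commutes' := fun a => by
        show E (qm ((algebraMap A S' a) ⊗ₜ[B₁] 1)) = _
        have : qm ((algebraMap A S' a) ⊗ₜ[B₁] 1) = algebraMap B _ (algebraMap A B a) := by
          simp only [qm]
          erw [Algebra.TensorProduct.map_tmul, map_one]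
          rw [Algebra.TensorProduct.algebraMap_apply, Algebra.algebraMap_self, RingHom.id_apply,
            IsScalarTower.algebraMap_apply A S' B]
          rfl
        rw [this, E.commutes, ← IsScalarTower.algebraMap_apply] }
  have hq : Function.Surjective q :=
    E.surjective.comp (TensorProduct.map_surjective hp fun z => ⟨z, rfl⟩)
  have hker : RingHom.ker q.toRingHom = (RingHom.ker ps).map (Algebra.TensorProduct.includeLeft : S' →ₐ[B₁] S' ⊗[B₁] (B₁ ⊗[B₀] C₀)) := by
    rw [← Algebra.TensorProduct.rTensor_ker ps hp]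
    ext z
    simp only [RingHom.mem_ker]
    exact ⟨fun h => E.injective (h.trans (map_zero E).symm),
      fun h => (congrArg E h).trans (map_zero E)⟩
  have : Module.FaithfullyFlat S' C' := inferInstance
  have hfg : (RingHom.ker ps).FG := by
    refine Ideal.FG.of_FG_map_of_faithfullyFlat (S := S' ⊗[B₁] (B₁ ⊗[B₀] C₀)) ?_
    have hfg' := Algebra.FinitePresentation.ker_fG_of_surjective (R := A) (A := C') (B := C) q hq
    rw [hker] at hfg'
    exact hfg'
  exact .of_surjective (f := IsScalarTower.toAlgHom A S' B) hp hfg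

end Groth.Agent.FppfSource
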