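import Groth.Agent.FppfSource.Scheme
import Groth.Agent.FibrewiseCrit.SmoothDescent

/-!
Etaleness descends along fppf coverings of the source.
-/

universe u

open CategoryTheory CategoryTheory.Limits AlgebraicGeometry

namespace Groth.Agent.FppfSource

theorem etale_of_comp {X Y Z : Scheme.{u}} (f : X ⟶ Y) (g : Y ⟶ Z) [Flat f] [LocallyOfFinitePresentation f]
    [Surjective f] [Etale (f ≫ g)] : Etale g := by
  haveI : FormallyUnramified f := FormallyUnramified.of_comp f g
  haveI : Etale f := Etale.of_formallyUnramified_of_flat f
  exact SourceDescent.etale_of_comp f g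

end Groth.Agent.FppfSource
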